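import Mathlib
import Groth.Agent.TorLib.Basic
import Groth.Agent.TorLib.Balance

/-!
`Tor` computed by a flat resolution in the first variable.
-/

set_option autoImplicit false
set_option linter.style.haveILetI false
set_option backward.isDefEq.respectTransparency false

universe u

open CategoryTheory CategoryTheory.Limits TensorProduct MonoidalCategory

namespace Groth.Agent.TorFlatResLib

variable {A : Type u} [CommRing A]

/-- Homology of `X → Y → Z`. -/
abbrev Hom3 {X Y Z : Type u} [AddCommGroup X] [Module A X] [AddCommGroup Y] [Module A Y] [AddCommGroup Z]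
    [Module A Z] (a : X →ₗ[A] Y) (b : Y →ₗ[A] Z) : Type u :=
  LinearMap.ker b ⧸ (LinearMap.range a).comap (LinearMap.ker b).subtype

/-- A complex `X → Y → Z` with `b = ι ∘ p`, tensored with `N`. -/
noncomputable def hom3Equiv {X Y K Z N : Type u} [AddCommGroup X] [Module A X] [AddCommGroup Y] [Module A Y]
    [AddCommGroup K] [Module A K] [AddCommGroup Z] [Module A Z] [AddCommGroup N] [Module A N]
    (a : X →ₗ[A] Y) (p : Y →ₗ[A] K) (ι : K →ₗ[A] Z) (b : Y →ₗ[A] Z) (hb : b = ι ∘ₗ p)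
    (hp : Function.Surjective p) (hex : Function.Exact a p) :
    Hom3 (a.rTensor N) (b.rTensor N) ≃ₗ[A] LinearMap.ker (ι.rTensor N) :=
  let π : LinearMap.ker (b.rTensor N) →ₗ[A] LinearMap.ker (ι.rTensor N) :=
    (p.rTensor N).restrict fun z hz => by
      rw [LinearMap.mem_ker] at hz ⊢
      rw [← LinearMap.comp_apply, ← LinearMap.rTensor_comp, ← hb]
      exact hz
  have hπ : Function.Surjective π := fun w => by
    obtain ⟨z, hz⟩ := LinearMap.rTensor_surjective N hp w.1
    refine ⟨⟨z, ?_⟩, Subtype.ext hz⟩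
    rw [LinearMap.mem_ker, hb, LinearMap.rTensor_comp, LinearMap.comp_apply, hz]
    exact w.2
  have hker : LinearMap.ker π = (LinearMap.range (a.rTensor N)).comap (LinearMap.ker (b.rTensor N)).subtype := by
    ext z
    rw [LinearMap.mem_ker, Submodule.mem_comap, LinearMap.mem_range]
    refine Iff.trans ?_ (rTensor_exact N hex hp z.1)
    exact ⟨fun h => congrArg Subtype.val h, fun h => Subtype.ext h⟩
  (Submodule.quotEquivOfEq _ _ hker.symm).trans (π.quotKerEquivOfSurjective hπ)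

/-- The homology in positive degrees. -/
theorem nonempty_equiv : ∀ (i : ℕ) (M N : Type u) [AddCommGroup M] [Module A M] [AddCommGroup N] [Module A N]
    (F : ℕ → ModuleCat.{u} A) [∀ n, Module.Flat A (F n)] (d : ∀ n, F (n + 1) →ₗ[A] F n) (g : F 0 →ₗ[A] M),
    Function.Surjective g → Function.Exact (d 0) g → (∀ n, Function.Exact (d (n + 1)) (d n)) →
    Nonempty (Hom3 ((d (i + 1)).rTensor N) ((d i).rTensor N) ≃ₗ[A] DRing.Tor A (i + 1) M N) := by
  intro i
  induction i with
  | zero =>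
    intro M N _ _ _ _ F _ d g hg h0 hd
    have hmem : ∀ x, d 0 x ∈ LinearMap.ker g := fun x => LinearMap.mem_ker.2 (h0.apply_apply_eq_zero x)
    let p : F 1 →ₗ[A] LinearMap.ker g := (d 0).codRestrict _ hmem
    have hp : Function.Surjective p := fun w => by
      obtain ⟨x, hx⟩ := (h0 w.1).1 (LinearMap.mem_ker.1 w.2)
      exact ⟨x, Subtype.ext hx⟩
    have hex : Function.Exact (d 1) p := fun x => by
      rw [← hd 0 x]
      exact ⟨fun h => congrArg Subtype.val h, fun h => Subtype.ext h⟩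
    exact ⟨(hom3Equiv (d 1) p (LinearMap.ker g).subtype (d 0) rfl hp hex).trans
      (TorLib.torOneEquivKer (LinearMap.ker g).subtype g N Subtype.val_injective hg
        (LinearMap.exact_subtype_ker_map g)).symm⟩
  | succ i ih =>
    intro M N _ _ _ _ F _ d g hg h0 hd
    have hmem : ∀ x, d 0 x ∈ LinearMap.ker g := fun x => LinearMap.mem_ker.2 (h0.apply_apply_eq_zero x)
    let p : F 1 →ₗ[A] LinearMap.ker g := (d 0).codRestrict _ hmem
    have hp : Function.Surjective p := fun w => by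
      obtain ⟨x, hx⟩ := (h0 w.1).1 (LinearMap.mem_ker.1 w.2)
      exact ⟨x, Subtype.ext hx⟩
    have hex : Function.Exact (d 1) p := fun x => by
      rw [← hd 0 x]
      exact ⟨fun h => congrArg Subtype.val h, fun h => Subtype.ext h⟩
    obtain ⟨e⟩ := ih (LinearMap.ker g) N (fun n => F (n + 1)) (fun n => d (n + 1)) p hp hex (fun n => hd (n + 1))
    exact ⟨e.trans (TorLib.torSuccEquiv (LinearMap.ker g).subtype g N Subtype.val_injective hg
      (LinearMap.exact_subtype_ker_map g) i).symm⟩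

/-- The homology in degree zero. -/
theorem nonempty_equiv_zero (M N : Type u) [AddCommGroup M] [Module A M] [AddCommGroup N] [Module A N]
    {F₁ F₀ : ModuleCat.{u} A} (d : F₁ →ₗ[A] F₀) (g : F₀ →ₗ[A] M) (hg : Function.Surjective g)
    (h0 : Function.Exact d g) :
    Nonempty (Hom3 (d.rTensor N) (0 : F₀ ⊗[A] N →ₗ[A] F₀ ⊗[A] N) ≃ₗ[A] DRing.Tor A 0 M N) := by
  let π : LinearMap.ker (0 : F₀ ⊗[A] N →ₗ[A] F₀ ⊗[A] N) →ₗ[A] M ⊗[A] N :=
    (g.rTensor N) ∘ₗ (LinearMap.ker (0 : F₀ ⊗[A] N →ₗ[A] F₀ ⊗[A] N)).subtype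
  have hπ : Function.Surjective π := fun w => by
    obtain ⟨z, hz⟩ := LinearMap.rTensor_surjective N hg w
    exact ⟨⟨z, LinearMap.mem_ker.2 rfl⟩, hz⟩
  have hker : LinearMap.ker π = (LinearMap.range (d.rTensor N)).comap
      (LinearMap.ker (0 : F₀ ⊗[A] N →ₗ[A] F₀ ⊗[A] N)).subtype := by
    ext z
    rw [LinearMap.mem_ker, Submodule.mem_comap, LinearMap.mem_range]
    exact rTensor_exact N h0 hg z.1
  exact ⟨((Submodule.quotEquivOfEq _ _ hker.symm).trans (π.quotKerEquivOfSurjective hπ)).trans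
    (TorLib.torZeroEquiv M N).symm⟩

/-- The homology of a short complex of modules. -/
noncomputable def homologyEquiv (S : ShortComplex (ModuleCat.{u} A)) :
    S.homology ≃ₗ[A] Hom3 S.f.hom S.g.hom :=
  S.moduleCatHomologyIso.toLinearEquiv.trans (Submodule.quotEquivOfEq _ _ (by
    ext z
    rw [Submodule.mem_comap, LinearMap.mem_range, LinearMap.mem_range]
    exact ⟨fun ⟨x, hx⟩ => ⟨x, congrArg Subtype.val hx⟩, fun ⟨x, hx⟩ => ⟨x, Subtype.ext hx⟩⟩))

/-- `Tor'` is `DRing.Tor`. -/
noncomputable def torPrimeIso (M N : ModuleCat.{u} A) (i : ℕ) :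
    ((CategoryTheory.Tor' (ModuleCat.{u} A) i).obj M).obj N ≅
      ((CategoryTheory.Tor (ModuleCat.{u} A) i).obj M).obj N :=
  let b : tensorRight N ≅ tensorLeft N := NatIso.ofComponents (fun X => β_ X N) (fun f => by simp)
  let γ : (tensorRight N).leftDerived i ≅ (tensorLeft N).leftDerived i :=
    ⟨NatTrans.leftDerived b.hom i, NatTrans.leftDerived b.inv i,
      by rw [← NatTrans.leftDerived_comp, b.hom_inv_id, NatTrans.leftDerived_id],
      by rw [← NatTrans.leftDerived_comp, b.inv_hom_id, NatTrans.leftDerived_id]⟩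
  γ.app M ≪≫ ((TorLib.torBalance A i).app N).app M

theorem tor_iso (M N : Type u) [AddCommGroup M] [Module A M] [AddCommGroup N] [Module A N]
    (F : ChainComplex (ModuleCat.{u} A) ℕ) (hF : ∀ i : ℕ, Module.Flat A (F.X i))
    (φ : F ⟶ (ChainComplex.single₀ (ModuleCat.{u} A)).obj (ModuleCat.of A M)) [QuasiIso φ] (i : ℕ) :
    Nonempty ((((MonoidalCategory.tensorRight (ModuleCat.of A N)).mapHomologicalComplex
      (ComplexShape.down ℕ)).obj F).homology i ≅
      ((CategoryTheory.Tor' (ModuleCat.{u} A) i).obj (ModuleCat.of A M)).obj (ModuleCat.of A N)) := by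
  -- exactness of the resolution
  have hexact : ∀ n, Function.Exact (F.d (n + 2) (n + 1)).hom (F.d (n + 1) n).hom := by
    intro n
    have h := (quasiIsoAt_iff_exactAt' φ (n + 1) (HomologicalComplex.exactAt_single_obj _ _ _ _ (Nat.succ_ne_zero n))).1
      inferInstance
    rw [HomologicalComplex.exactAt_iff' F (n + 2) (n + 1) n (by simp) (by simp),
      ShortComplex.ShortExact.moduleCat_exact_iff_function_exact] at h
    exact h
  have hcomp : F.d 1 0 ≫ φ.f 0 = 0 := by rw [← φ.comm 1 0]; simp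
  have hcok : IsColimit (CokernelCofork.ofπ (φ.f 0) hcomp) := by
    refine IsColimit.ofIsoColimit (F.opcyclesIsCokernel 1 0 (by simp)) ?_
    refine Cofork.ext (F.isoHomologyι₀.symm ≪≫ isoOfQuasiIsoAt φ 0 ≪≫
      HomologicalComplex.singleObjHomologySelfIso _ _ _) ?_
    rw [← cancel_mono (HomologicalComplex.singleObjHomologySelfIso (ComplexShape.down ℕ) 0 _).inv,
      ← cancel_mono (ChainComplex.isoHomologyι₀ _).hom]
    dsimp
    simp [HomologicalComplex.singleObjOpcyclesSelfIso_hom, ChainComplex.single₀ObjXSelf]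
  have hS : (ShortComplex.mk (F.d 1 0) (φ.f 0) hcomp).Exact := ShortComplex.exact_of_g_is_cokernel _ hcok
  haveI : Epi (φ.f 0) := epi_of_isColimit_cofork hcok
  let g : F.X 0 →ₗ[A] M := (φ.f 0).hom
  have hg : Function.Surjective g := (ModuleCat.epi_iff_surjective (φ.f 0)).1 inferInstance
  have h0 : Function.Exact (F.d 1 0).hom g :=
    (ShortComplex.ShortExact.moduleCat_exact_iff_function_exact _).1 hS
  haveI : ∀ n, Module.Flat A (F.X n) := hF
  let G := ((MonoidalCategory.tensorRight (ModuleCat.of A N)).mapHomologicalComplex (ComplexShape.down ℕ)).obj F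
  cases i with
  | zero =>
    obtain ⟨e⟩ := nonempty_equiv_zero M N (F.d 1 0).hom g hg h0
    have hz : (G.sc' 1 0 0).g.hom = (0 : F.X 0 ⊗[A] N →ₗ[A] F.X 0 ⊗[A] N) := by
      show (G.d 0 0).hom = _
      rw [G.shape 0 0 (by simp)]
      rfl
    let e1 : Hom3 (G.sc' 1 0 0).f.hom (G.sc' 1 0 0).g.hom ≃ₗ[A]
        Hom3 ((F.d 1 0).hom.rTensor N) (0 : F.X 0 ⊗[A] N →ₗ[A] F.X 0 ⊗[A] N) := by
      rw [hz]
      exact LinearEquiv.refl A _
    exact ⟨ShortComplex.homologyMapIso (G.isoSc' 1 0 0 (by simp) (by simp)) ≪≫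
      (((homologyEquiv (G.sc' 1 0 0)).trans e1).trans e).toModuleIso ≪≫
        (torPrimeIso (ModuleCat.of A M) (ModuleCat.of A N) 0).symm⟩
  | succ i =>
    obtain ⟨e⟩ := nonempty_equiv i M N (fun n => F.X n) (fun n => (F.d (n + 1) n).hom) g hg h0 hexact
    let e1 : Hom3 (G.sc' (i + 2) (i + 1) i).f.hom (G.sc' (i + 2) (i + 1) i).g.hom ≃ₗ[A]
        Hom3 ((F.d (i + 2) (i + 1)).hom.rTensor N) ((F.d (i + 1) i).hom.rTensor N) := LinearEquiv.refl A _
    exact ⟨ShortComplex.homologyMapIso (G.isoSc' (i + 2) (i + 1) i (by simp) (by simp)) ≪≫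
      (((homologyEquiv (G.sc' (i + 2) (i + 1) i)).trans e1).trans e).toModuleIso ≪≫
        (torPrimeIso (ModuleCat.of A M) (ModuleCat.of A N) (i + 1)).symm⟩

end Groth.Agent.TorFlatResLib
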